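import Groth.Prelude.Def_CE
import Mathlib.Algebra.Homology.Refinements
import Mathlib.Algebra.Homology.HomologySequence
import Mathlib.Algebra.Homology.HomologicalComplexAbelian
import Mathlib.CategoryTheory.Abelian.Refinements
import Mathlib.CategoryTheory.Preadditive.Injective.Basic

/-! Cartan–Eilenberg resolutions of bounded below complexes. -/

set_option autoImplicit false
universe v u

open CategoryTheory CategoryTheory.Limits HomologicalComplex ZeroObject

namespace GrothLib.CE19

variable {A : Type u} [Category.{v} A] [Abelian A] [EnoughInjectives A]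

theorem exists_hull (X : A) : ∃ (E : A) (m : X ⟶ E), Mono m ∧ Injective E ∧ (IsZero X → IsZero E) := by
  by_cases h : IsZero X
  · have : Injective (0 : A) := ⟨fun _ _ _ => ⟨0, (isZero_zero A).eq_of_tgt _ _⟩⟩
    exact ⟨0, 0, ⟨fun _ _ _ => h.eq_of_tgt _ _⟩, this, fun _ => isZero_zero A⟩
  · exact ⟨Injective.under X, Injective.ι X, inferInstance, inferInstance, fun h' => (h h').elim⟩

/-- An injective hull which preserves zero objects. -/
noncomputable def hull (X : A) : A := (exists_hull X).choose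
/-- The inclusion. -/
noncomputable def hullι (X : A) : X ⟶ hull X := (exists_hull X).choose_spec.choose

instance (X : A) : Mono (hullι X) := (exists_hull X).choose_spec.choose_spec.1
instance (X : A) : Injective (hull X) := (exists_hull X).choose_spec.choose_spec.2.1

theorem isZero_hull {X : A} (h : IsZero X) : IsZero (hull X) :=
  (exists_hull X).choose_spec.choose_spec.2.2 h

variable (K : CochainComplex A ℤ)

/-- The hull of the boundaries. -/
noncomputable abbrev W (p : ℤ) : A := hull (image (K.d ((ComplexShape.up ℤ).prev p) p))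
/-- The hull of the homology. -/
noncomputable abbrev V (p : ℤ) : A := hull (K.homology p)

/-- An extension of the inclusion of the boundaries in their hull. -/
noncomputable def α (p : ℤ) : K.X p ⟶ W K p :=
  Injective.factorThru (hullι (image (K.d ((ComplexShape.up ℤ).prev p) p))) (image.ι _)

/-- An extension of the map from the cycles to the hull of the homology. -/
noncomputable def β (p : ℤ) : K.X p ⟶ V K p :=
  Injective.factorThru (K.homologyπ p ≫ hullι (K.homology p)) (K.iCycles p)

theorem iCycles_β (p : ℤ) : K.iCycles p ≫ β K p = K.homologyπ p ≫ hullι (K.homology p) :=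
  Injective.comp_factorThru _ _

theorem d_β (i p : ℤ) : K.d i p ≫ β K p = 0 := by
  rw [← K.toCycles_i i p, Category.assoc, iCycles_β, toCycles_comp_homologyπ_assoc, zero_comp]

theorem eq_zero_of_α (i p : ℤ) (hi : i + 1 = p) {T : A} (y : T ⟶ K.X i) (h : y ≫ K.d i p ≫ α K p = 0) :
    y ≫ K.d i p = 0 := by
  obtain rfl : i = (ComplexShape.up ℤ).prev p := by simp; omega
  have e : K.d ((ComplexShape.up ℤ).prev p) p ≫ α K p =
      factorThruImage (K.d ((ComplexShape.up ℤ).prev p) p) ≫ hullι (image (K.d ((ComplexShape.up ℤ).prev p) p)) := by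
    calc K.d ((ComplexShape.up ℤ).prev p) p ≫ α K p =
        (factorThruImage (K.d ((ComplexShape.up ℤ).prev p) p) ≫ image.ι (K.d ((ComplexShape.up ℤ).prev p) p)) ≫
          α K p := by rw [image.fac]
      _ = _ := by rw [Category.assoc, α, Injective.comp_factorThru]
  have h' : y ≫ factorThruImage (K.d ((ComplexShape.up ℤ).prev p) p) = 0 := by
    rw [← cancel_mono (hullι (image (K.d ((ComplexShape.up ℤ).prev p) p))), zero_comp, ← h, Category.assoc, e]
  rw [← image.fac (K.d ((ComplexShape.up ℤ).prev p) p), reassoc_of% h', zero_comp]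

/-- A complex with injective terms, cycles and homology containing `K`. -/
noncomputable def J : CochainComplex A ℤ :=
  CochainComplex.of (fun p => W K p ⊞ (V K p ⊞ W K (p + 1)))
    (fun _ => biprod.snd ≫ biprod.snd ≫ biprod.inl) (fun _ => by simp)

/-- The projection to the hull of the boundaries. -/
noncomputable def pW (p : ℤ) : (J K).X p ⟶ W K p := biprod.fst (X := W K p) (Y := V K p ⊞ W K (p + 1))
/-- The projection to the hull of the homology. -/
noncomputable def pV (p : ℤ) : (J K).X p ⟶ V K p :=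
  biprod.snd (X := W K p) (Y := V K p ⊞ W K (p + 1)) ≫ biprod.fst
/-- The projection to the hull of the next boundaries. -/
noncomputable def pN (p : ℤ) : (J K).X p ⟶ W K (p + 1) :=
  biprod.snd (X := W K p) (Y := V K p ⊞ W K (p + 1)) ≫ biprod.snd
/-- The inclusion of the hull of the boundaries. -/
noncomputable def iW (p : ℤ) : W K p ⟶ (J K).X p := biprod.inl (X := W K p) (Y := V K p ⊞ W K (p + 1))
/-- The inclusion of the hull of the homology. -/
noncomputable def iV (p : ℤ) : V K p ⟶ (J K).X p :=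
  biprod.inl ≫ biprod.inr (X := W K p) (Y := V K p ⊞ W K (p + 1))
/-- The inclusion of the hull of the next boundaries. -/
noncomputable def iN (p : ℤ) : W K (p + 1) ⟶ (J K).X p :=
  biprod.inr ≫ biprod.inr (X := W K p) (Y := V K p ⊞ W K (p + 1))

section
variable (p : ℤ)
@[reassoc (attr := simp)] theorem iW_pW : iW K p ≫ pW K p = 𝟙 _ := biprod.inl_fst
@[reassoc (attr := simp)] theorem iW_pV : iW K p ≫ pV K p = 0 :=
  biprod.inl_snd_assoc _ |>.trans zero_comp
@[reassoc (attr := simp)] theorem iW_pN : iW K p ≫ pN K p = 0 :=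
  biprod.inl_snd_assoc _ |>.trans zero_comp
@[reassoc (attr := simp)] theorem iN_pN : iN K p ≫ pN K p = 𝟙 _ :=
  (Category.assoc _ _ _).trans ((congrArg (_ ≫ ·) (biprod.inr_snd_assoc _)).trans biprod.inr_snd)
@[reassoc (attr := simp)] theorem iV_pW : iV K p ≫ pW K p = 0 :=
  (Category.assoc _ _ _).trans ((congrArg (_ ≫ ·) biprod.inr_fst).trans comp_zero)
@[reassoc (attr := simp)] theorem iV_pV : iV K p ≫ pV K p = 𝟙 _ :=
  (Category.assoc _ _ _).trans ((congrArg (_ ≫ ·) (biprod.inr_snd_assoc _)).trans biprod.inl_fst)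
@[reassoc (attr := simp)] theorem iV_pN : iV K p ≫ pN K p = 0 :=
  (Category.assoc _ _ _).trans ((congrArg (_ ≫ ·) (biprod.inr_snd_assoc _)).trans biprod.inl_snd)

theorem hom_ext {T : A} {g h : T ⟶ (J K).X p} (h₁ : g ≫ pW K p = h ≫ pW K p)
    (h₂ : g ≫ pV K p = h ≫ pV K p) (h₃ : g ≫ pN K p = h ≫ pN K p) : g = h :=
  biprod.hom_ext (C := A) (X := W K p) (Y := V K p ⊞ W K (p + 1)) g h h₁ <|
    biprod.hom_ext _ _ ((Category.assoc _ _ _).trans (h₂.trans (Category.assoc _ _ _).symm))
      ((Category.assoc _ _ _).trans (h₃.trans (Category.assoc _ _ _).symm))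

theorem J_d : (J K).d p (p + 1) = pN K p ≫ iW K (p + 1) :=
  (CochainComplex.of_d (X := fun p => W K p ⊞ (V K p ⊞ W K (p + 1)))
      (d := fun _ => biprod.snd ≫ biprod.snd ≫ biprod.inl) p).trans
    (Category.assoc _ _ _).symm

@[reassoc (attr := simp)] theorem J_d_pW : (J K).d p (p + 1) ≫ pW K (p + 1) = pN K p := by
  rw [J_d, Category.assoc, iW_pW, Category.comp_id]
@[reassoc (attr := simp)] theorem J_d_pV : (J K).d p (p + 1) ≫ pV K (p + 1) = 0 := by
  rw [J_d, Category.assoc, iW_pV, comp_zero]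
@[reassoc (attr := simp)] theorem J_d_pN : (J K).d p (p + 1) ≫ pN K (p + 1) = 0 := by
  rw [J_d, Category.assoc, iW_pN, comp_zero]

/-- The comparison in one degree. -/
noncomputable def f₀ : K.X p ⟶ (J K).X p :=
  biprod.lift (α K p) (biprod.lift (β K p) (K.d p (p + 1) ≫ α K (p + 1)))

@[reassoc (attr := simp)] theorem f₀_pW : f₀ K p ≫ pW K p = α K p := biprod.lift_fst _ _
@[reassoc (attr := simp)] theorem f₀_pV : f₀ K p ≫ pV K p = β K p :=
  (biprod.lift_snd_assoc _ _ _).trans (biprod.lift_fst _ _)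
@[reassoc (attr := simp)] theorem f₀_pN : f₀ K p ≫ pN K p = K.d p (p + 1) ≫ α K (p + 1) :=
  (biprod.lift_snd_assoc _ _ _).trans (biprod.lift_snd _ _)
end

/-- The comparison. -/
noncomputable def f : K ⟶ J K where
  f p := f₀ K p
  comm' p q hpq := by
    obtain rfl : p + 1 = q := hpq
    apply hom_ext <;> simp [d_β]

@[simp] theorem f_f (p : ℤ) : (f K).f p = f₀ K p := rfl

theorem exists_of_β (i p : ℤ) (hi : i + 1 = p) {T : A} (x : T ⟶ K.X p) (hx : x ≫ K.d p (p + 1) = 0)
    (h : x ≫ β K p = 0) : ∃ (T' : A) (π : T' ⟶ T) (_ : Epi π) (y : T' ⟶ K.X i), π ≫ x = y ≫ K.d i p := by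
  refine (K.liftCycles_comp_homologyπ_eq_zero_iff_up_to_refinements i p (p + 1) (by simp; omega) (by simp) x hx).1 ?_
  rw [← cancel_mono (hullι (K.homology p)), zero_comp, Category.assoc, ← iCycles_β, liftCycles_i_assoc, h]

instance mono_f (p : ℤ) : Mono ((f K).f p) := Preadditive.mono_of_cancel_zero _ fun {T} x hx => by
  rw [f_f] at hx
  have h1 : x ≫ K.d p (p + 1) = 0 :=
    eq_zero_of_α K p (p + 1) rfl x (by rw [← f₀_pN, reassoc_of% hx, zero_comp])
  obtain ⟨T', π, _, y, hy⟩ := exists_of_β K (p - 1) p (by omega) x h1 (by rw [← f₀_pV, reassoc_of% hx, zero_comp])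
  rw [← cancel_epi π, comp_zero, hy]
  refine eq_zero_of_α K (p - 1) p (by omega) y ?_
  rw [← reassoc_of% hy, ← f₀_pW, reassoc_of% hx, zero_comp, comp_zero]

instance : Mono (f K) := mono_of_mono_f _ inferInstance

theorem d_pV (i p : ℤ) (hi : i + 1 = p) : (J K).d i p ≫ pV K p = 0 := by
  subst hi
  exact J_d_pV K i

instance mono_homologyMap_f (p : ℤ) : Mono (homologyMap (f K) p) := by
  rw [mono_homologyMap_iff_up_to_refinements (f K) (p - 1) p (p + 1) (by simp) (by simp)]
  intro T x hx y hy
  refine exists_of_β K (p - 1) p (by omega) x hx ?_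
  rw [← f₀_pV, ← f_f, reassoc_of% hy, d_pV K (p - 1) p (by omega), comp_zero]

instance injective_J (p : ℤ) : Injective ((J K).X p) :=
  inferInstanceAs (Injective (W K p ⊞ (V K p ⊞ W K (p + 1))))

@[reassoc (attr := simp)]
theorem iCycles_pN (p : ℤ) : (J K).iCycles p ≫ pN K p = 0 := by
  rw [← J_d_pW, iCycles_d_assoc, zero_comp]

/-- The idempotent onto the cycles. -/
noncomputable def e (p : ℤ) : (J K).X p ⟶ (J K).X p := pW K p ≫ iW K p + pV K p ≫ iV K p

theorem e_d (p : ℤ) : e K p ≫ (J K).d p (p + 1) = 0 := by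
  simp [e, J_d]

/-- The projection to the cycles. -/
noncomputable def toZ (p : ℤ) : (J K).X p ⟶ (J K).cycles p :=
  (J K).liftCycles (e K p) (p + 1) (by simp) (e_d K p)

theorem iCycles_e (p : ℤ) : (J K).iCycles p ≫ e K p = (J K).iCycles p := by
  apply hom_ext <;> simp [e]

theorem iCycles_toZ (p : ℤ) : (J K).iCycles p ≫ toZ K p = 𝟙 _ := by
  rw [← cancel_mono ((J K).iCycles p), Category.assoc, toZ, liftCycles_i, Category.id_comp, iCycles_e]

instance injective_cycles_J (p : ℤ) : Injective ((J K).cycles p) :=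
  Retract.injective ⟨(J K).iCycles p, toZ K p, iCycles_toZ K p⟩

theorem retract_homology (i p : ℤ) (hi : i + 1 = p) : ∃ (r : Retract ((J K).homology p) (V K p)), True := by
  subst hi
  refine ⟨⟨(J K).homologyι (i + 1) ≫ (J K).descOpcycles (pV K (i + 1)) i (by simp) (J_d_pV K i),
    iV K (i + 1) ≫ toZ K (i + 1) ≫ (J K).homologyπ (i + 1), ?_⟩, trivial⟩
  rw [← cancel_epi ((J K).homologyπ (i + 1)), Category.comp_id]
  simp only [Category.assoc, homology_π_ι_assoc, p_descOpcycles_assoc]
  have he : (J K).iCycles (i + 1) ≫ pV K (i + 1) ≫ iV K (i + 1) ≫ toZ K (i + 1) =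
      𝟙 _ - ((J K).iCycles (i + 1) ≫ pW K (i + 1) ≫ iN K i) ≫ (J K).toCycles i (i + 1) := by
    rw [← cancel_mono ((J K).iCycles (i + 1))]
    simp only [Category.assoc, Preadditive.sub_comp, toCycles_i, toZ, liftCycles_i, Category.id_comp]
    apply hom_ext <;> simp [e]
  rw [reassoc_of% he]
  simp

instance injective_homology_J (p : ℤ) : Injective ((J K).homology p) :=
  (retract_homology K (p - 1) p (by omega)).choose.injective

theorem isZero_J (n : ℤ) (hK : ∀ p < n, IsZero (K.X p)) (p : ℤ) (hp : p < n) : IsZero ((J K).X p) := by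
  have hW : ∀ q ≤ n, IsZero (W K q) := fun q hq => isZero_hull (by
    have : IsZero (K.X ((ComplexShape.up ℤ).prev q)) := hK _ (by simp; omega)
    exact IsZero.of_epi (factorThruImage (K.d ((ComplexShape.up ℤ).prev q) q)) this)
  have hV : IsZero (V K p) := isZero_hull
    (ShortComplex.isZero_homology_of_isZero_X₂ _ (hK p hp))
  exact (biprod_isZero_iff _ _).2 ⟨hW p hp.le, (biprod_isZero_iff _ _).2 ⟨hV, hW (p + 1) (by omega)⟩⟩

/-- The basic short exact sequence. -/
noncomputable def S : ShortComplex (CochainComplex A ℤ) :=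
  ShortComplex.mk (f K) (cokernel.π (f K)) (cokernel.condition _)

theorem shortExact_S : (S K).ShortExact where
  exact := ShortComplex.exact_cokernel (f K)
  mono_f := inferInstanceAs (Mono (f K))
  epi_g := inferInstanceAs (Epi (cokernel.π (f K)))

theorem shortExact_eval (p : ℤ) : ((S K).map (eval A (ComplexShape.up ℤ) p)).ShortExact :=
  (shortExact_S K).map_of_exact _

theorem epi_cyclesMap (p : ℤ) : Epi (cyclesMap (cokernel.π (f K)) p) := by
  rw [epi_iff_surjective_up_to_refinements]
  intro T x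
  have hS := shortExact_eval K p
  have hS' := shortExact_eval K (p + 1)
  have := hS'.mono_f
  obtain ⟨T₁, π₁, _, y, hy⟩ := surjective_up_to_refinements_of_epi ((cokernel.π (f K)).f p)
    (x ≫ (cokernel (f K)).iCycles p)
  have hy0 : (y ≫ (J K).d p (p + 1)) ≫ (cokernel.π (f K)).f (p + 1) = 0 := by
    rw [Category.assoc, ← Hom.comm, ← reassoc_of% hy, iCycles_d, comp_zero, comp_zero]
  obtain ⟨z, hz⟩ : ∃ z : T₁ ⟶ K.X (p + 1), z ≫ (f K).f (p + 1) = y ≫ (J K).d p (p + 1) :=
    ⟨hS'.exact.lift _ hy0, hS'.exact.lift_f _ hy0⟩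
  have hzc : z ≫ K.d (p + 1) (p + 1 + 1) = 0 := by
    rw [← cancel_mono ((f K).f (p + 1 + 1)), zero_comp, Category.assoc, ← Hom.comm, reassoc_of% hz, d_comp_d,
      comp_zero]
  have hm : Mono (homologyMap (f K) (p + 1)) := inferInstance
  rw [mono_homologyMap_iff_up_to_refinements (f K) p (p + 1) (p + 1 + 1) (by simp) (by simp)] at hm
  obtain ⟨T₂, π₂, _, t, ht⟩ := hm z hzc y hz
  refine ⟨T₂, π₂ ≫ π₁, inferInstance, (J K).liftCycles (π₂ ≫ y - t ≫ (f K).f p) (p + 1) (by simp) ?_, ?_⟩
  · rw [Preadditive.sub_comp, Category.assoc, Category.assoc, Hom.comm, ← hz, reassoc_of% ht, sub_self]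
  · rw [← cancel_mono ((cokernel (f K)).iCycles p)]
    simp only [Category.assoc, cyclesMap_i, liftCycles_i_assoc, Preadditive.sub_comp, hy]
    rw [← comp_f, cokernel.condition, zero_f, comp_zero, sub_zero]

theorem shortExact_cycles (p : ℤ) :
    ((S K).map (cyclesFunctor A (ComplexShape.up ℤ) p)).ShortExact where
  exact := by
    have := (shortExact_S K).mono_f
    exact HomologicalComplex.cycles_left_exact (S K) (shortExact_S K).exact p
  mono_f := inferInstanceAs (Mono (cyclesMap (f K) p))
  epi_g := epi_cyclesMap K p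

theorem shortExact_homology (p : ℤ) :
    ((S K).map (homologyFunctor A (ComplexShape.up ℤ) p)).ShortExact where
  exact := (shortExact_S K).homology_exact₂ p
  mono_f := mono_homologyMap_f K p
  epi_g := by
    have := epi_cyclesMap K p
    have : Epi ((J K).homologyπ p ≫ homologyMap (cokernel.π (f K)) p) := by
      rw [homologyπ_naturality]; exact epi_comp _ _
    exact @epi_of_epi _ _ _ _ _ ((J K).homologyπ p) (homologyMap (cokernel.π (f K)) p) this

end GrothLib.CE19
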