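import Groth.Agent.Lib.CE19.Basic

/-! Assembling Cartan–Eilenberg resolutions. -/

set_option autoImplicit false
universe v u v' u'

open CategoryTheory CategoryTheory.Limits HomologicalComplex ZeroObject

namespace GrothLib.CE19

variable {A : Type u} [Category.{v} A] [Abelian A] [EnoughInjectives A] (K : CochainComplex A ℤ)

/-- The iterated cokernels. -/
noncomputable def syz : ℕ → CochainComplex A ℤ
  | 0 => K
  | n + 1 => cokernel (f (syz n))

/-- The projection to the next cokernel. -/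
noncomputable def g (q : ℕ) : J (syz K q) ⟶ syz K (q + 1) := cokernel.π (f (syz K q))

@[reassoc]
theorem f_g (q : ℕ) : f (syz K q) ≫ g K q = 0 := cokernel.condition _

theorem epi_g_f (q : ℕ) (p : ℤ) : Epi ((g K q).f p) :=
  (shortExact_eval (syz K q) p).epi_g

/-- The terms of the resolution. -/
noncomputable def term : ℤ → CochainComplex A ℤ
  | Int.ofNat q => J (syz K q)
  | Int.negSucc _ => 0

/-- The differential of the resolution. -/
noncomputable def dif : ∀ q : ℤ, term K q ⟶ term K (q + 1)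
  | Int.ofNat q => g K q ≫ f (syz K (q + 1))
  | Int.negSucc _ => 0

theorem dif_dif : ∀ q : ℤ, dif K q ≫ dif K (q + 1) = 0
  | Int.ofNat q => by
    change (g K q ≫ f (syz K (q + 1))) ≫ g K (q + 1) ≫ f (syz K (q + 1 + 1)) = 0
    rw [Category.assoc, f_g_assoc, zero_comp, comp_zero]
  | Int.negSucc _ => zero_comp

/-- The resolution. -/
noncomputable def I : CochainComplex (CochainComplex A ℤ) ℤ := CochainComplex.of (term K) (dif K) (dif_dif K)

/-- The augmentation. -/
noncomputable def ε : K ⟶ (I K).X 0 := f (syz K 0)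

theorem I_d (q : ℕ) : (I K).d (q : ℤ) ((q + 1 : ℕ) : ℤ) = g K q ≫ f (syz K (q + 1)) :=
  CochainComplex.of_d (X := term K) (d := dif K) (q : ℤ)

theorem ε_d : ε K ≫ (I K).d 0 1 = 0 := by
  have h : f (syz K 0) ≫ (I K).d ((0 : ℕ) : ℤ) ((0 + 1 : ℕ) : ℤ) = 0 := by
    exact (congrArg (f (syz K 0) ≫ ·) (I_d K 0)).trans ((f_g_assoc K 0 _).trans zero_comp)
  exact h

theorem isZero_syz (n : ℤ) (hK : ∀ p < n, IsZero (K.X p)) : ∀ (q : ℕ) (p : ℤ), p < n → IsZero ((syz K q).X p)
  | 0, p, hp => hK p hp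
  | q + 1, p, hp =>
    have := epi_g_f K q p
    IsZero.of_epi ((g K q).f p) (isZero_J _ n (isZero_syz n hK q) p hp)

theorem isZero_I (n : ℤ) (hK : ∀ p < n, IsZero (K.X p)) : ∀ (q p : ℤ), p < n → IsZero (((I K).X q).X p)
  | Int.ofNat q, p, hp => isZero_J _ n (isZero_syz K n hK q) p hp
  | Int.negSucc _, p, _ => (eval A (ComplexShape.up ℤ) p).map_isZero (isZero_zero _)

variable (F : CochainComplex A ℤ ⥤ A) [F.Additive]

/-- An additive functor exact on the basic sequences sends the resolution to an injective resolution. -/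
theorem isInjResolutionVia (hF : ∀ q, ((S (syz K q)).map F).ShortExact)
    (hinj : ∀ L, Injective (F.obj (J L))) :
    CE.IsInjResolutionVia ((F.mapHomologicalComplex (ComplexShape.up ℤ)).obj (I K)) (F.obj K) (F.map (ε K)) := by
  let C := (F.mapHomologicalComplex (ComplexShape.up ℤ)).obj (I K)
  have hd : ∀ q : ℕ, C.d (q : ℤ) ((q + 1 : ℕ) : ℤ) = F.map (g K q) ≫ F.map (f (syz K (q + 1))) :=
    fun q => (congrArg F.map (I_d K q)).trans (F.map_comp _ _)
  have hmono : ∀ q, Mono (F.map (f (syz K q))) := fun q => (hF q).mono_f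
  have hlift : ∀ (q : ℕ) {T : A} (x : T ⟶ F.obj (J (syz K q))),
      x ≫ C.d (q : ℤ) ((q + 1 : ℕ) : ℤ) = 0 → ∃ z : T ⟶ F.obj (syz K q), z ≫ F.map (f (syz K q)) = x := by
    intro q T x hx
    have := hmono (q + 1)
    have := hmono q
    have h1 : (x ≫ F.map (g K q)) ≫ F.map (f (syz K (q + 1))) = 0 := by
      rw [Category.assoc, ← hd q]
      exact hx
    have h2 : x ≫ ((S (syz K q)).map F).g = 0 :=
      (cancel_mono (F.map (f (syz K (q + 1))))).1 (h1.trans zero_comp.symm)
    have : Mono ((S (syz K q)).map F).f := hmono q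
    exact ⟨(hF q).exact.lift x h2, (hF q).exact.lift_f x h2⟩
  have hε : F.map (ε K) ≫ C.d 0 1 = 0 :=
    (F.map_comp _ _).symm.trans ((congrArg F.map (ε_d K)).trans (F.map_zero _ _))
  refine ⟨hε, (CochainComplex.isStrictlyGE_iff C 0).2 ?_, ?_, ?_, hmono 0, ?_⟩
  · rintro (q | q) hi
    · exact absurd hi (not_lt.2 (Int.natCast_nonneg q))
    · exact F.map_isZero (isZero_zero _)
  · rintro (q | q)
    · exact hinj _
    · exact (show Injective (0 : A) from ⟨fun _ _ _ => ⟨0, (isZero_zero A).eq_of_tgt _ _⟩⟩) |> fun h =>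
        Injective.of_iso ((isZero_zero A).iso (F.map_isZero (isZero_zero _))) h
  · rintro ((_ | q) | q) hq
    · exact absurd rfl hq
    · refine (C.exactAt_iff_exact_up_to_refinements (q : ℤ) ((q + 1 : ℕ) : ℤ) ((q + 1 + 1 : ℕ) : ℤ)
        (by simp) (by simp)).2 fun T x hx => ?_
      obtain ⟨z, hz⟩ := hlift (q + 1) x hx
      have := (hF q).epi_g
      obtain ⟨T', π, _, y, hy⟩ := surjective_up_to_refinements_of_epi ((S (syz K q)).map F).g z
      refine ⟨T', π, inferInstance, y, ?_⟩
      exact (congrArg (π ≫ ·) hz).symm.trans (((Category.assoc _ _ _).symm.trans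
        ((congrArg (· ≫ F.map (f (syz K (q + 1)))) hy).trans (Category.assoc _ _ _))).trans
          (congrArg (y ≫ ·) (hd q)).symm)
    · refine ShortComplex.exact_of_isZero_X₂ _ ?_
      exact F.map_isZero (isZero_zero _)
  · rw [ShortComplex.exact_iff_exact_up_to_refinements]
    intro T x hx
    obtain ⟨z, hz⟩ := hlift 0 x hx
    exact ⟨T, 𝟙 T, inferInstance, z, (Category.id_comp _).trans hz.symm⟩

end GrothLib.CE19
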